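import Groth.Agent.UnipSplitLib.Kernel
import Groth.Agent.UnipHopfLib.Primitive
import Groth.Agent.HopfFFLib.Consequences
import Groth.Prelude.Def_SGA3b
import Mathlib.RingTheory.Noetherian.Basic

/-!
Extensions of diagonalisable groups by unipotent groups split.
-/

set_option autoImplicit false

noncomputable section

universe u

open TensorProduct WithConv

namespace Groth.Agent.UnipSplit

variable {k : Type u} [Field k] {A : Type u} [CommRing A] [HopfAlgebra k A] {B : Type u} [CommRing B] [HopfAlgebra k B]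

theorem isHopfIdeal_map (φ : B →ₐc[k] A) :
    (Ideal.map (φ : B →+* A) (RingHom.ker (Bialgebra.counitAlgHom k B))).IsHopfIdeal k := by
  set J := Ideal.map (φ : B →+* A) (RingHom.ker (Bialgebra.counitAlgHom k B))
  have hq : ∀ b, Ideal.Quotient.mk J (φ b) = algebraMap k (A ⧸ J) (Coalgebra.counit (R := k) b) := fun b => by
    rw [← Ideal.Quotient.mk_algebraMap, Ideal.Quotient.eq]
    have : φ b - algebraMap k A (Coalgebra.counit (R := k) b) =
        φ (b - algebraMap k B (Coalgebra.counit (R := k) b)) := by rw [map_sub, AlgHomClass.commutes]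
    rw [this]
    exact Ideal.mem_map_of_mem (φ : B →+* A) (RingHom.mem_ker.2 (by simp))
  have hε : J ≤ RingHom.ker (Bialgebra.counitAlgHom k A) := Ideal.map_le_iff_le_comap.2 fun b hb => by
    rw [Ideal.mem_comap, RingHom.mem_ker]
    show Coalgebra.counit (R := k) (φ b) = 0
    rw [CoalgHomClass.counit_comp_apply]
    exact hb
  let M : A →ₐ[k] (A ⧸ J) ⊗[k] (A ⧸ J) :=
    (Algebra.TensorProduct.map (Ideal.Quotient.mkₐ k J) (Ideal.Quotient.mkₐ k J)).comp (Bialgebra.comulAlgHom k A)
  have hM : J ≤ RingHom.ker M := Ideal.map_le_iff_le_comap.2 fun b hb => by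
    rw [Ideal.mem_comap, RingHom.mem_ker]
    show Algebra.TensorProduct.map (Ideal.Quotient.mkₐ k J) (Ideal.Quotient.mkₐ k J)
      (CoalgebraStruct.comul (R := k) (φ b)) = 0
    rw [← CoalgHomClass.map_comp_comul_apply φ]
    have key : ∀ z : B ⊗[k] B, Algebra.TensorProduct.map (Ideal.Quotient.mkₐ k J) (Ideal.Quotient.mkₐ k J)
        (TensorProduct.map (φ : B →ₗ[k] A) (φ : B →ₗ[k] A) z) = algebraMap k _ (Coalgebra.counit (R := k)
          (TensorProduct.lid k B (LinearMap.rTensor B (Coalgebra.counit (R := k)) z))) := fun z => by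
      induction z using TensorProduct.induction_on with
      | zero => simp
      | add x y hx hy => simp only [map_add, hx, hy]
      | tmul p q =>
        rw [TensorProduct.map_tmul, Algebra.TensorProduct.map_tmul, Ideal.Quotient.mkₐ_eq_mk,
          show Ideal.Quotient.mk J ((φ : B →ₗ[k] A) p) = _ from hq p,
          show Ideal.Quotient.mk J ((φ : B →ₗ[k] A) q) = _ from hq q, LinearMap.rTensor_tmul, TensorProduct.lid_tmul,
          map_smul, smul_eq_mul]
        simp [Algebra.algebraMap_eq_smul_one, TensorProduct.smul_tmul', smul_smul, mul_comm,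
          Algebra.TensorProduct.one_def]
    rw [key, Coalgebra.rTensor_counit_comul, TensorProduct.lid_tmul, one_smul]
    rw [show Coalgebra.counit (R := k) b = 0 from hb, map_zero]
  have hS : J ≤ J.comap (HopfAlgebra.antipodeAlgHom k A) := Ideal.map_le_iff_le_comap.2 fun b hb => by
    rw [Ideal.mem_comap, Ideal.mem_comap]
    show HopfAlgebraStruct.antipode (R := k) (φ b) ∈ J
    rw [← HopfFF.map_antipode]
    refine Ideal.mem_map_of_mem (φ : B →+* A) ?_
    rw [RingHom.mem_ker] at hb ⊢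
    simpa [HopfAlgebra.counit_antipode] using hb
  haveI : (J.restrictScalars k).IsCoideal := by
    refine ⟨fun x hx => hε hx, fun x hx => ?_⟩
    let e := (Submodule.Quotient.restrictScalarsEquiv k J).symm.toLinearMap
    have h : ∀ z : A ⊗[k] A, TensorProduct.map (J.restrictScalars k).mkQ (J.restrictScalars k).mkQ z =
        TensorProduct.map e e (Algebra.TensorProduct.map (Ideal.Quotient.mkₐ k J) (Ideal.Quotient.mkₐ k J) z) :=
      fun z => by
        induction z using TensorProduct.induction_on with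
        | zero => simp
        | add x y hx hy => simp only [map_add, hx, hy]
        | tmul p q => rfl
    rw [h]
    have h0 : M x = 0 := hM hx
    exact (congrArg (TensorProduct.map e e) h0).trans (map_zero _)
  exact ⟨fun x hx => hS hx⟩

theorem exists_basis_integral (hB : SGA3b.IsDiag k B) :
    ∃ (M : Type u) (β : Module.Basis M k B) (l₀ : B →ₗ[k] k), (∀ m, IsGroupLikeElem k (β m)) ∧ l₀ 1 = 1 ∧
      ∀ b, ComodLib.slice l₀ (CoalgebraStruct.comul (R := k) b) = l₀ b • (1 : B) := by
  classical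
  obtain ⟨M, _, ⟨e⟩⟩ := hB
  let β := (MonoidAlgebra.basis M k).map e.toAlgEquiv.symm.toLinearEquiv
  have hβ : ∀ m, β m = e.symm (MonoidAlgebra.single m 1) := fun m => by simp [β]; rfl
  have h1 : β 1 = 1 := by rw [hβ, ← MonoidAlgebra.one_def, map_one]
  have hgl : ∀ m, IsGroupLikeElem k (β m) := fun m => by
    rw [hβ]
    refine ⟨?_, ?_⟩
    · rw [CoalgHomClass.counit_comp_apply]
      simp
    · rw [← CoalgHomClass.map_comp_comul_apply e.symm]
      simp
  refine ⟨M, β, β.coord 1, hgl, by rw [← h1]; simp, fun b => ?_⟩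
  have : ComodLib.slice (β.coord 1) ∘ₗ CoalgebraStruct.comul = (β.coord 1).smulRight (1 : B) := β.ext fun m => by
    rw [LinearMap.comp_apply, (hgl m).comul_eq_tmul_self, ComodLib.slice_tmul, LinearMap.smulRight_apply]
    rcases eq_or_ne m 1 with rfl | hne
    · rw [h1]
    · have h0 : β.coord 1 (β m) = 0 := by simp [hne.symm]
      rw [h0, zero_smul, zero_smul]
  exact LinearMap.congr_fun this b

/-- Over an algebraically closed field, a unipotent-by-diagonalisable group contains a smaller subgroup surjecting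
onto the quotient, unless the kernel is trivial. -/
theorem exists_smaller [IsAlgClosed k] (hB : SGA3b.IsDiag k B) (ψ : B →ₐc[k] A) (hψ : Function.Injective ψ)
    (J : Ideal A) [J.IsHopfIdeal k] (hJ : J = Ideal.map (ψ : B →+* A) (RingHom.ker (Bialgebra.counitAlgHom k B)))
    (hU : ∀ u : A ⧸ J, ∃ n, u ∈ UnipHopf.K k (A ⧸ J) n) {u : A ⧸ J}
    (hu : u ≠ CoalgebraStruct.counit (R := k) u • (1 : A ⧸ J)) :
    ∃ I : Ideal A, I ≠ ⊥ ∧ I.IsHopfIdeal k ∧ ∀ b, ψ b ∈ I → b = 0 := by
  let q := Bialgebra.Quotient.mkBialgHom (R := k) J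
  have h : Ext q ψ := {
    surj := Ideal.Quotient.mk_surjective
    inj := hψ
    comp := fun b => by
      show Ideal.Quotient.mk J (ψ b) = _
      rw [← Ideal.Quotient.mk_algebraMap, Ideal.Quotient.eq]
      have : ψ b - algebraMap k A (Coalgebra.counit (R := k) b) =
          ψ (b - algebraMap k B (Coalgebra.counit (R := k) b)) := by rw [map_sub, AlgHomClass.commutes]
      rw [this, hJ]
      exact Ideal.mem_map_of_mem (ψ : B →+* A) (RingHom.mem_ker.2 (by simp))
    ker := fun a ha => by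
      rw [← hJ]
      exact Ideal.Quotient.eq_zero_iff_mem.1 ha }
  obtain ⟨M, β, l₀, hgl, hl1, hl₀⟩ := exists_basis_integral hB
  obtain ⟨π, hπ⟩ := LinearMap.exists_leftInverse_of_injective (ψ : B →ₐ[k] A).toLinearMap
    (LinearMap.ker_eq_bot.2 hψ)
  have hπ' : ∀ b, π (ψ b) = b := fun b => LinearMap.congr_fun hπ b
  have hl1' : (l₀ ∘ₗ π) 1 = 1 := by rw [LinearMap.comp_apply, ← map_one ψ, hπ', hl1]
  have hl : ∀ b, ComodLib.slice (l₀ ∘ₗ π) (CoalgebraStruct.comul (R := k) (ψ b)) = (l₀ ∘ₗ π) (ψ b) • (1 : A) := by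
    intro b
    rw [← CoalgHomClass.map_comp_comul_apply ψ, LinearMap.comp_apply, hπ']
    have key : ∀ z : B ⊗[k] B, ComodLib.slice (l₀ ∘ₗ π) (TensorProduct.map (ψ : B →ₗ[k] A) (ψ : B →ₗ[k] A) z) =
        ψ (ComodLib.slice l₀ z) := fun z => by
      induction z using TensorProduct.induction_on with
      | zero => simp
      | add x y hx hy => simp only [map_add, hx, hy]
      | tmul p r => simp [hπ']
    rw [key, hl₀, map_smul, map_one]
  obtain ⟨κ, hκ⟩ := h.exists_conj
  obtain ⟨x₀, hx₀, hx₀'⟩ := UnipHopf.exists_primitive_of_exhaustive hU hu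
  obtain ⟨x, m, hx0, hx, hgx⟩ := h.exists_weight β (fun m => (hgl m).comul_eq_tmul_self) hκ hx₀ hx₀'
  obtain ⟨a, ha, hΔ, hP⟩ := h.exists_crossed hl1' hl hκ hx (hgl m) hgx
  refine ⟨Ideal.span {a}, ?_, ?_, fun b hb => h.eq_zero_of_mem_span hx ha hP hb⟩
  · intro h0
    have ha0 : a = 0 := by simpa using h0
    apply hx0
    rw [ha0, map_zero, TensorProduct.tmul_zero, add_zero] at ha
    have := congrArg (fun z => TensorProduct.rid k (A ⧸ J) (LinearMap.lTensor (A ⧸ J) (Coalgebra.counit (R := k)) z)) ha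
    simpa using this.symm
  · refine isHopfIdeal_span_crossed (g := ψ (β m)) ⟨?_, ?_⟩ hΔ
    · rw [CoalgHomClass.counit_comp_apply]; exact (hgl m).counit_eq_one
    · rw [← CoalgHomClass.map_comp_comul_apply ψ, (hgl m).comul_eq_tmul_self, TensorProduct.map_tmul]; rfl

/-- The splitting. -/
theorem exists_retraction [IsAlgClosed k] [Algebra.FiniteType k A] (hB : SGA3b.IsDiag k B) (ψ : B →ₐc[k] A)
    (hψ : Function.Injective ψ) (J : Ideal A) [J.IsHopfIdeal k]
    (hJ : J = Ideal.map (ψ : B →+* A) (RingHom.ker (Bialgebra.counitAlgHom k B)))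
    (hU : HopfRep.IsUnipotent k (A ⧸ J)) : ∃ r : A →ₐc[k] B, r.comp ψ = BialgHom.id k B := by
  haveI : IsNoetherianRing A := Algebra.FiniteType.isNoetherianRing k A
  let S : Set (Ideal A) := {I | I.IsHopfIdeal k ∧ ∀ b, ψ b ∈ I → b = 0}
  have hS : S.Nonempty := by
    refine ⟨⊥, ?_, fun b hb => hψ (hb.trans (map_zero ψ).symm)⟩
    haveI : ((⊥ : Ideal A).restrictScalars k).IsCoideal :=
      ⟨fun x hx => by rw [show x = 0 from hx, map_zero],
        fun x hx => by rw [show x = 0 from hx, map_zero]; exact map_zero _⟩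
    exact ⟨fun x hx => by
      rw [show x = 0 from hx, map_zero]
      exact zero_mem _⟩
  obtain ⟨I, ⟨hI, hIψ⟩, hmax⟩ := set_has_maximal_iff_noetherian.2 ‹IsNoetherianRing A› S hS
  haveI := hI
  let q₀ := Bialgebra.Quotient.mkBialgHom (R := k) I
  let ψ' : B →ₐc[k] A ⧸ I := q₀.comp ψ
  have hψ' : Function.Injective ψ' := fun b c e => by
    have e' : Ideal.Quotient.mk I (ψ b) = Ideal.Quotient.mk I (ψ c) := e
    rw [Ideal.Quotient.eq, ← map_sub] at e'
    exact sub_eq_zero.1 (hIψ _ e')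
  let J' := Ideal.map (ψ' : B →+* A ⧸ I) (RingHom.ker (Bialgebra.counitAlgHom k B))
  haveI : J'.IsHopfIdeal k := isHopfIdeal_map ψ'
  let q' : A →ₐc[k] (A ⧸ I) ⧸ J' := (Bialgebra.Quotient.mkBialgHom (R := k) J').comp q₀
  have hker : ∀ a ∈ J, q' a = 0 := fun a ha => by
    have hle : J ≤ RingHom.ker (q' : A →+* (A ⧸ I) ⧸ J') := by
      rw [hJ]
      exact Ideal.map_le_iff_le_comap.2 fun b hb =>
        Ideal.Quotient.eq_zero_iff_mem.2 (Ideal.mem_map_of_mem (ψ' : B →+* A ⧸ I) hb)
    exact hle ha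
  let f : A ⧸ J →ₐc[k] (A ⧸ I) ⧸ J' := BialgHom.ofAlgHom (Ideal.Quotient.liftₐ J (q' : A →ₐ[k] (A ⧸ I) ⧸ J') hker)
    (AlgHom.ext fun u => by
      obtain ⟨a, rfl⟩ := Ideal.Quotient.mk_surjective u
      exact CoalgHomClass.counit_comp_apply q' a)
    (AlgHom.ext fun u => by
      obtain ⟨a, rfl⟩ := Ideal.Quotient.mk_surjective u
      show _ = CoalgebraStruct.comul (R := k) (q' a)
      rw [← CoalgHomClass.map_comp_comul_apply q', AlgHom.comp_apply, Bialgebra.comulAlgHom_apply,
        Bialgebra.Quotient.comul_mk]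
      generalize CoalgebraStruct.comul (R := k) a = z
      induction z using TensorProduct.induction_on with
      | zero => simp
      | add x y hx hy => simp only [map_add, hx, hy]
      | tmul p r => rfl)
  have hU' : ∀ u : (A ⧸ I) ⧸ J', ∃ n, u ∈ UnipHopf.K k ((A ⧸ I) ⧸ J') n := fun u => by
    obtain ⟨v, rfl⟩ := Ideal.Quotient.mk_surjective u
    obtain ⟨a, rfl⟩ := Ideal.Quotient.mk_surjective v
    exact (UnipHopf.exhaustive_of_isUnipotent hU (Ideal.Quotient.mk J a)).imp fun n hn => UnipHopf.map_mem_K f hn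
  by_cases htriv : ∀ u : (A ⧸ I) ⧸ J', u = CoalgebraStruct.counit (R := k) u • 1
  · have hbij : Function.Bijective ψ' := by
      refine HopfFF.bijective_of_injective_of_map_augI ψ' hψ' (le_antisymm (Ideal.map_le_iff_le_comap.2 fun b hb => ?_) fun a ha => ?_)
      · show Coalgebra.counit (R := k) (ψ' b) = 0
        rw [CoalgHomClass.counit_comp_apply]
        exact hb
      have h1 := htriv (Ideal.Quotient.mk J' a)
      rw [show CoalgebraStruct.counit (R := k) (Ideal.Quotient.mk J' a) = 0 from ha, zero_smul,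
        Ideal.Quotient.eq_zero_iff_mem] at h1
      exact h1
    let e := BialgEquiv.ofBijective ψ' hbij
    refine ⟨(e.symm : (A ⧸ I) →ₐc[k] B).comp q₀, BialgHom.ext fun b => ?_⟩
    show e.symm (ψ' b) = b
    exact e.symm_apply_apply b
  · push Not at htriv
    obtain ⟨u, hu⟩ := htriv
    obtain ⟨I₁, hI₁, hI₁H, hI₁ψ⟩ := exists_smaller hB ψ' hψ' J' rfl hU' hu
    exfalso
    haveI := hI₁H
    let I₂ : Ideal A := I₁.comap (q₀ : A →ₐ[k] A ⧸ I)
    have hI₂ : I₂.IsHopfIdeal k := UnipHopf.isHopfIdeal_comap q₀ I₁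
    refine hmax I₂ ⟨hI₂, fun b hb => hI₁ψ b hb⟩ (lt_of_le_not_ge (fun a ha => ?_) fun hle => hI₁ ?_)
    · show q₀ a ∈ I₁
      rw [show q₀ a = 0 from Ideal.Quotient.eq_zero_iff_mem.2 ha]
      exact zero_mem _
    · refine eq_bot_iff.2 fun v hv => ?_
      obtain ⟨a, rfl⟩ := Ideal.Quotient.mk_surjective v
      exact Ideal.Quotient.eq_zero_iff_mem.2 (hle hv)

end Groth.Agent.UnipSplit
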