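import Groth.Agent.HopfFFLib.Injective
import Groth.Agent.HopfFFLib.Normal.Points
import Groth.Agent.ComodLib.Slices
import Mathlib.RingTheory.Flat.FaithfullyFlat.Basic

/-!
Translations and conjugation by the kernel of a quotient map of affine groups.
-/

set_option autoImplicit false

noncomputable section

universe u

open TensorProduct WithConv

namespace Groth.Agent.UnipSplit

attribute [local instance] HopfFF.pointsGroup

variable {k : Type u} [Field k] {A : Type u} [CommRing A] [HopfAlgebra k A]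
  {U : Type u} [CommRing U] [HopfAlgebra k U] {B : Type u} [CommRing B] [HopfAlgebra k B]

section points

variable {T T' : Type u} [CommRing T] [Algebra k T] [CommRing T'] [Algebra k T']

/-- A point pushed along a map of rings. -/
def push (h : T →ₐ[k] T') (P : WithConv (A →ₐ[k] T)) : WithConv (A →ₐ[k] T') := toConv (h.comp P.ofConv)

theorem push_mul (h : T →ₐ[k] T') (P Q : WithConv (A →ₐ[k] T)) : push h (P * Q) = push h P * push h Q :=
  WithConv.ext (AlgHom.comp_convMul_distrib h P Q)

theorem push_inv (h : T →ₐ[k] T') (P : WithConv (A →ₐ[k] T)) : push h P⁻¹ = (push h P)⁻¹ := rfl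

theorem push_toConv (h : T →ₐ[k] T') (f : A →ₐ[k] T) : push h (toConv f) = toConv (h.comp f) := rfl

/-- A point of the subgroup as a point of the group. -/
def pull (q : A →ₐc[k] U) (f : U →ₐ[k] T) : WithConv (A →ₐ[k] T) := toConv (f.comp (q : A →ₐ[k] U))

theorem pull_apply (q : A →ₐc[k] U) (f : U →ₐ[k] T) (a : A) : (pull q f).ofConv a = f (q a) := rfl

theorem pull_mul (q : A →ₐc[k] U) (f f' : U →ₐ[k] T) :
    pull q f * pull q f' = pull q (toConv f * toConv f').ofConv :=
  WithConv.ext (AlgHom.convMul_comp_bialgHom_distrib (toConv f) (toConv f') q).symm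

theorem push_pull (h : T →ₐ[k] T') (q : A →ₐc[k] U) (f : U →ₐ[k] T) : push h (pull q f) = pull q (h.comp f) :=
  rfl

theorem pull_inv (q : A →ₐc[k] U) (f : U →ₐ[k] T) :
    (pull q f)⁻¹ = pull q ((toConv f)⁻¹).ofConv :=
  WithConv.ext (AlgHom.ext fun a => congrArg f (HopfFF.map_antipode q a)) 

theorem add_of_primitive {x : U} (hx : CoalgebraStruct.comul (R := k) x = x ⊗ₜ[k] (1 : U) + (1 : U) ⊗ₜ[k] x)
    (f f' : WithConv (U →ₐ[k] T)) : (f * f').ofConv x = f.ofConv x + f'.ofConv x := by
  show (f * f') x = _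
  rw [AlgHom.convMul_apply, show Coalgebra.comul (R := k) x = _ from hx]
  simp

end points

/-- Left translation by the subgroup. -/
def lam (q : A →ₐc[k] U) : A →ₐ[k] U ⊗[k] A :=
  (pull q (Algebra.TensorProduct.includeLeft : U →ₐ[k] U ⊗[k] A) *
    toConv (Algebra.TensorProduct.includeRight : A →ₐ[k] U ⊗[k] A)).ofConv

theorem lam_apply (q : A →ₐc[k] U) (a : A) :
    lam q a = LinearMap.rTensor A (q : A →ₐ[k] U).toLinearMap (CoalgebraStruct.comul (R := k) a) := by
  show (pull q (Algebra.TensorProduct.includeLeft : U →ₐ[k] U ⊗[k] A) *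
    toConv (Algebra.TensorProduct.includeRight : A →ₐ[k] U ⊗[k] A)) a = _
  rw [AlgHom.convMul_apply]
  generalize Coalgebra.comul (R := k) a = z
  induction z using TensorProduct.induction_on with
  | zero => simp
  | add x y hx hy => simp only [map_add, hx, hy]
  | tmul p r => simp [pull]

/-- Conjugation of the subgroup by the group. -/
def Ad (q : A →ₐc[k] U) : A →ₐ[k] A ⊗[k] U :=
  (toConv (Algebra.TensorProduct.includeLeft : A →ₐ[k] A ⊗[k] U) *
    pull q (Algebra.TensorProduct.includeRight : U →ₐ[k] A ⊗[k] U) *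
    (toConv (Algebra.TensorProduct.includeLeft : A →ₐ[k] A ⊗[k] U))⁻¹).ofConv

section points

variable {T : Type u} [CommRing T] [Algebra k T]

theorem lam_spec (q : A →ₐc[k] U) (f : U →ₐ[k] T) (e : A →ₐ[k] T) :
    pull q f * toConv e = toConv ((Algebra.TensorProduct.productMap f e).comp (lam q)) := by
  show _ = push (Algebra.TensorProduct.productMap f e) (pull q _ * toConv _)
  rw [push_mul, push_pull, push_toConv]
  congr 2
  · ext; simp
  · ext; simp

theorem Ad_spec (q : A →ₐc[k] U) (e : A →ₐ[k] T) (f : U →ₐ[k] T) :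
    toConv e * pull q f * (toConv e)⁻¹ = toConv ((Algebra.TensorProduct.productMap e f).comp (Ad q)) := by
  show _ = push (Algebra.TensorProduct.productMap e f) (toConv _ * pull q _ * (toConv _)⁻¹)
  rw [push_mul, push_mul, push_pull, push_inv, push_toConv]
  have e1 : (Algebra.TensorProduct.productMap e f).comp
      (Algebra.TensorProduct.includeLeft : A →ₐ[k] A ⊗[k] U) = e := by ext; simp
  have e2 : (Algebra.TensorProduct.productMap e f).comp
      (Algebra.TensorProduct.includeRight : U →ₐ[k] A ⊗[k] U) = f := by ext; simp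
  rw [e1, e2]

end points

/-- An extension `1 → Spec U → Spec A → Spec B → 1`. -/
structure Ext (q : A →ₐc[k] U) (ψ : B →ₐc[k] A) : Prop where
  surj : Function.Surjective q
  inj : Function.Injective ψ
  comp : ∀ b, q (ψ b) = algebraMap k U (CoalgebraStruct.counit (R := k) b)
  ker : RingHom.ker (q : A →+* U) ≤ Ideal.map (ψ : B →+* A) (RingHom.ker (Bialgebra.counitAlgHom k B))

variable {q : A →ₐc[k] U} {ψ : B →ₐc[k] A}

theorem Ext.pull_comp (h : Ext q ψ) {T : Type u} [CommRing T] [Algebra k T] (f : U →ₐ[k] T) :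
    (pull q f).ofConv.comp (ψ : B →ₐ[k] A) = (1 : WithConv (B →ₐ[k] T)).ofConv := AlgHom.ext fun b => by
  show f (q (ψ b)) = (1 : WithConv (B →ₐ[k] T)) b
  rw [h.comp, AlgHom.commutes, AlgHom.convOne_apply]

theorem Ext.exists_lift (h : Ext q ψ) {T : Type u} [CommRing T] [Algebra k T] (Θ : A →ₐ[k] T)
    (hΘ : ∀ b, Θ (ψ b) = algebraMap k T (CoalgebraStruct.counit (R := k) b)) :
    ∃ θ : U →ₐ[k] T, θ.comp (q : A →ₐ[k] U) = Θ := by
  have hle : RingHom.ker (q : A →ₐ[k] U) ≤ RingHom.ker Θ := fun a ha => by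
    have := h.ker ha
    revert this
    suffices Ideal.map (ψ : B →+* A) (RingHom.ker (Bialgebra.counitAlgHom k B)) ≤ RingHom.ker Θ from fun x => this x
    refine Ideal.map_le_iff_le_comap.2 fun b hb => ?_
    rw [Ideal.mem_comap, RingHom.mem_ker]
    show Θ (ψ b) = 0
    rw [hΘ, show CoalgebraStruct.counit (R := k) b = 0 from hb, map_zero]
  exact ⟨AlgHom.liftOfSurjective (q : A →ₐ[k] U) h.surj Θ fun a ha => hle ha,
    AlgHom.liftOfSurjective_comp _ h.surj Θ fun a ha => hle ha⟩

/-- Conjugation descends to the subgroup. -/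
theorem Ext.exists_conj (h : Ext q ψ) :
    ∃ κ : U →ₐ[k] A ⊗[k] U, κ.comp (q : A →ₐ[k] U) = Ad q := by
  refine h.exists_lift _ fun b => ?_
  let L : A →ₐ[k] A ⊗[k] U := Algebra.TensorProduct.includeLeft
  let R : U →ₐ[k] A ⊗[k] U := Algebra.TensorProduct.includeRight
  have e1 := AlgHom.convMul_comp_bialgHom_distrib (toConv L * pull q R) (toConv L)⁻¹ ψ
  have e2 := AlgHom.convMul_comp_bialgHom_distrib (toConv L) (pull q R) ψ
  have e3 : (toConv L)⁻¹.ofConv.comp (ψ : B →ₐ[k] A) = (toConv (L.comp (ψ : B →ₐ[k] A)))⁻¹.ofConv :=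
    AlgHom.ext fun c => congrArg L (HopfFF.map_antipode ψ c).symm
  rw [e2, h.pull_comp R, toConv_ofConv, mul_one, ofConv_toConv, e3, toConv_ofConv, ofConv_toConv,
    mul_inv_cancel] at e1
  exact AlgHom.congr_fun e1 b

theorem Ext.mem_range_of_invariant (h : Ext q ψ) {z : A} (hz : lam q z = 1 ⊗ₜ[k] z) : z ∈ Set.range ψ := by
  letI := (ψ : B →+* A).toAlgebra
  haveI : IsScalarTower k B A := IsScalarTower.of_algebraMap_eq fun c => (AlgHomClass.commutes ψ c).symm
  haveI : Module.FaithfullyFlat B A :=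
    RingHom.faithfullyFlat_algebraMap_iff.1 (HopfFF.faithfullyFlat_of_injective ψ h.inj)
  let L : A →ₐ[k] A ⊗[B] A := Algebra.TensorProduct.includeLeft
  let R : A →ₐ[k] A ⊗[B] A := (Algebra.TensorProduct.includeRight : A →ₐ[B] A ⊗[B] A).restrictScalars k
  have hLR : ∀ b : B, R (ψ b) = L (ψ b) := fun b =>
    ((Algebra.TensorProduct.includeRight : A →ₐ[B] A ⊗[B] A).commutes b).trans
      ((Algebra.TensorProduct.includeLeft : A →ₐ[B] A ⊗[B] A).commutes b).symm
  obtain ⟨θ, hθ⟩ := h.exists_lift (toConv R * (toConv L)⁻¹).ofConv fun b => by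
    have e1 := AlgHom.convMul_comp_bialgHom_distrib (toConv R) (toConv L)⁻¹ ψ
    have e2 : (toConv R).ofConv.comp (ψ : B →ₐ[k] A) = L.comp (ψ : B →ₐ[k] A) := AlgHom.ext hLR
    have e3 : (toConv L)⁻¹.ofConv.comp (ψ : B →ₐ[k] A) = (toConv (L.comp (ψ : B →ₐ[k] A)))⁻¹.ofConv :=
      AlgHom.ext fun c => congrArg L (HopfFF.map_antipode ψ c).symm
    rw [e2, e3, toConv_ofConv, mul_inv_cancel] at e1
    exact AlgHom.congr_fun e1 b
  have hR : pull q θ * toConv L = toConv R := by
    rw [pull, hθ, toConv_ofConv, inv_mul_cancel_right]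
  rw [lam_spec] at hR
  have h2 : R z = L z := by
    have := AlgHom.congr_fun (toConv_injective hR) z
    rw [AlgHom.comp_apply, hz, Algebra.TensorProduct.productMap_apply_tmul, map_one, one_mul] at this
    exact this.symm
  let W : Submodule B A := LinearMap.range (Algebra.linearMap B A)
  have h3 := congrArg (LinearMap.lTensor A W.mkQ) h2
  change LinearMap.lTensor A W.mkQ ((1 : A) ⊗ₜ[B] z) = LinearMap.lTensor A W.mkQ (z ⊗ₜ[B] (1 : A)) at h3
  rw [LinearMap.lTensor_tmul, LinearMap.lTensor_tmul,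
    show W.mkQ (1 : A) = 0 from (Submodule.Quotient.mk_eq_zero W).2 ⟨1, map_one (algebraMap B A)⟩,
    tmul_zero] at h3
  have h4 : W.mkQ z = 0 :=
    Module.FaithfullyFlat.tensorProduct_mk_injective (A := B) (B := A) (A ⧸ W)
      (h3.trans (map_zero _).symm)
  exact (Submodule.Quotient.mk_eq_zero W).1 h4

theorem Ext.mem_range_rTensor_of_invariant (h : Ext q ψ) {V : Type u} [AddCommGroup V] [Module k V] {z : A ⊗[k] V}
    (hz : LinearMap.rTensor V (lam q).toLinearMap z = (TensorProduct.assoc k U A V).symm ((1 : U) ⊗ₜ[k] z)) :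
    z ∈ LinearMap.range ((LinearMap.range (ψ : B →ₐ[k] A).toLinearMap).subtype.rTensor V) := by
  refine (ComodLib.mem_range_rTensor_iff _ _).2 fun f => ?_
  refine h.mem_range_of_invariant ?_
  have e := congrArg (ComodLib.slice f) hz
  rw [ComodLib.slice_rTensor] at e
  refine Eq.trans e ?_
  clear hz e
  induction z using TensorProduct.induction_on with
  | zero => simp
  | add x y hx hy => simp only [TensorProduct.tmul_add, map_add, hx, hy]
  | tmul p v => simp [TensorProduct.tmul_smul]

theorem Ext.mem_range_lTensor_of_invariant (h : Ext q ψ) {V : Type u} [AddCommGroup V] [Module k V] {z : V ⊗[k] A}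
    (hz : LinearMap.lTensor V (lam q).toLinearMap z =
      LinearMap.lTensor V (TensorProduct.mk k U A 1) z) :
    z ∈ LinearMap.range ((LinearMap.range (ψ : B →ₐ[k] A).toLinearMap).subtype.lTensor V) := by
  refine (ComodLib.mem_range_lTensor_iff _ _).2 fun g => ?_
  refine h.mem_range_of_invariant ?_
  have e := congrArg (ComodLib.sliceL g) hz
  rw [ComodLib.sliceL_lTensor, ComodLib.sliceL_lTensor] at e
  exact e

end Groth.Agent.UnipSplit
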