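import Mathlib.RingTheory.Bialgebra.Hom
import Mathlib.RingTheory.Bialgebra.TensorProduct
import Mathlib.RingTheory.Algebraic.Basic
import Mathlib.FieldTheory.Minpoly.Field
import Mathlib.FieldTheory.IsAlgClosed.Basic
import Mathlib.Data.Nat.Choose.Sum

/-!
The relation satisfied by an additive character.
-/

set_option autoImplicit false

noncomputable section

universe u v

open TensorProduct Polynomial

namespace Groth.Agent.UnipSplit

variable {k : Type u} [Field k] {U : Type v} [CommRing U] [Bialgebra k U] {x : U}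

theorem exists_dual_pow (x : U) : ∃ φ : ℕ → (U →ₗ[k] k),
    ∀ i j, i < (minpoly k x).natDegree → j < (minpoly k x).natDegree → φ i (x ^ j) = if i = j then 1 else 0 := by
  classical
  let n := (minpoly k x).natDegree
  have hli : LinearIndependent k fun j : Fin n => x ^ (j : ℕ) := linearIndependent_pow x
  obtain ⟨π, hπ⟩ := LinearMap.exists_leftInverse_of_injective (Fintype.linearCombination k (fun j : Fin n => x ^ (j : ℕ)))
    (LinearMap.ker_eq_bot.2 hli.fintypeLinearCombination_injective)
  refine ⟨fun i => if h : i < n then LinearMap.proj (⟨i, h⟩ : Fin n) ∘ₗ π else 0, fun i j hi hj => ?_⟩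
  beta_reduce
  rw [dif_pos (show i < n from hi), LinearMap.comp_apply]
  have := LinearMap.congr_fun hπ (Pi.single (⟨j, hj⟩ : Fin n) 1)
  rw [LinearMap.comp_apply, Fintype.linearCombination_apply_single, one_smul] at this
  rw [this]
  simp [Pi.single_apply]

theorem coeff_mul_choose_eq_zero (hx : CoalgebraStruct.comul (R := k) x = x ⊗ₜ[k] (1 : U) + (1 : U) ⊗ₜ[k] x)
    {j l : ℕ} (hj : j ≠ 0) (hl : l ≠ 0) : (minpoly k x).coeff (j + l) * ((j + l).choose j : k) = 0 := by
  classical
  obtain ⟨φ, hφ⟩ := exists_dual_pow (k := k) x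
  set P := minpoly k x
  set n := P.natDegree
  rcases Nat.lt_or_ge n (j + l) with hlt | hge
  · rw [coeff_eq_zero_of_natDegree_lt hlt, zero_mul]
  have h0 := congrArg (LinearMap.mul' k k ∘ₗ TensorProduct.map (φ j) (φ l))
    (aeval_algHom_apply (Bialgebra.comulAlgHom k U) x P)
  rw [Bialgebra.comulAlgHom_apply, show Coalgebra.comul (R := k) x = _ from hx, minpoly.aeval, map_zero, map_zero,
    aeval_eq_sum_range, map_sum] at h0
  have hterm : ∀ i ∈ Finset.range (n + 1), ∀ m ∈ Finset.range (i + 1),
      φ j (x ^ m) * φ l (x ^ (i - m)) = if m = j ∧ i = j + l then 1 else 0 := by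
    intro i hi m hm
    rw [Finset.mem_range] at hi hm
    have hne : ∀ r, r ≠ 0 → r < n → φ r (x ^ 0) = 0 := fun r hr hr' => by
      rw [hφ r 0 hr' (by omega), if_neg hr]
    rcases eq_or_ne m n with h1 | h1
    · rw [show i - m = 0 by omega, hne l hl (by omega), mul_zero, if_neg (by omega)]
    rcases eq_or_ne (i - m) n with h2 | h2
    · rw [show m = 0 by omega, hne j hj (by omega), zero_mul, if_neg (by omega)]
    rw [hφ j m (by omega) (by omega), hφ l (i - m) (by omega) (by omega)]
    split_ifs <;> first | omega | simp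
  have hsum : ∀ i ∈ Finset.range (n + 1),
      (LinearMap.mul' k k ∘ₗ TensorProduct.map (φ j) (φ l)) (P.coeff i • (x ⊗ₜ[k] (1 : U) + (1 : U) ⊗ₜ[k] x) ^ i) =
        if i = j + l then P.coeff i * (i.choose j : k) else 0 := by
    intro i hi
    rw [LinearMap.map_smul, (Commute.all _ _).add_pow, map_sum, smul_eq_mul]
    have hval : ∀ m ∈ Finset.range (i + 1), (LinearMap.mul' k k ∘ₗ TensorProduct.map (φ j) (φ l))
        ((x ⊗ₜ[k] (1 : U)) ^ m * ((1 : U) ⊗ₜ[k] x) ^ (i - m) * (i.choose m : U ⊗[k] U)) =
        (i.choose m : k) * if m = j ∧ i = j + l then 1 else 0 := by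
      intro m hm
      rw [Algebra.TensorProduct.tmul_pow, Algebra.TensorProduct.tmul_pow, one_pow, one_pow,
        Algebra.TensorProduct.tmul_mul_tmul, mul_one, one_mul, mul_comm, ← map_natCast (algebraMap k (U ⊗[k] U)),
        ← Algebra.smul_def, LinearMap.map_smul, ← hterm i hi m hm]
      simp
    rw [Finset.sum_congr rfl hval]
    by_cases h : i = j + l
    · simp [h]
    · simp [h]
  rw [Finset.sum_congr rfl hsum, Finset.sum_ite_eq' _ (j + l), if_pos (Finset.mem_range.2 (by omega))] at h0
  exact h0

theorem coeff_zero_eq_zero (hε : CoalgebraStruct.counit (R := k) x = 0) : (minpoly k x).coeff 0 = 0 := by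
  have h := (aeval_algHom_apply (Bialgebra.counitAlgHom k U) x (minpoly k x))
  rw [minpoly.aeval, map_zero, show Bialgebra.counitAlgHom k U x = 0 from hε] at h
  rw [← h, coe_aeval_eq_eval, coeff_zero_eq_eval_zero]

/-- The relation is additive. -/
theorem aeval_add (hx : CoalgebraStruct.comul (R := k) x = x ⊗ₜ[k] (1 : U) + (1 : U) ⊗ₜ[k] x)
    (hε : CoalgebraStruct.counit (R := k) x = 0) {T : Type*} [CommRing T] [Algebra k T] (a b : T) :
    aeval (a + b) (minpoly k x) = aeval a (minpoly k x) + aeval b (minpoly k x) := by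
  classical
  rw [aeval_eq_sum_range, aeval_eq_sum_range, aeval_eq_sum_range, ← Finset.sum_add_distrib]
  refine Finset.sum_congr rfl fun i _ => ?_
  rcases eq_or_ne i 0 with rfl | hi
  · simp [coeff_zero_eq_zero hε]
  rw [add_pow, Finset.smul_sum, ← Finset.sum_subset (show ({0, i} : Finset ℕ) ⊆ Finset.range (i + 1) by
    intro m hm; simp only [Finset.mem_insert, Finset.mem_singleton] at hm; simp; omega)]
  · rw [Finset.sum_pair hi.symm]
    simp [add_comm]
  · intro m hm hm'
    simp only [Finset.mem_range, Finset.mem_insert, Finset.mem_singleton, not_or] at hm hm'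
    have h := coeff_mul_choose_eq_zero hx (j := m) (l := i - m) hm'.1 (by omega)
    rw [show m + (i - m) = i by omega] at h
    rw [mul_comm, ← map_natCast (algebraMap k T), ← Algebra.smul_def, smul_smul, h, zero_smul]

/-- The relation is homogeneous for a weight. -/
theorem aeval_mul_of_weight {A : Type*} [CommRing A] [Algebra k A] (g : A) (κ : U →ₐ[k] A ⊗[k] U)
    (hκ : κ x = g ⊗ₜ[k] x) (v : A) :
    aeval (g * v) (minpoly k x) = g ^ (minpoly k x).natDegree * aeval v (minpoly k x) := by
  classical
  obtain ⟨φ, hφ⟩ := exists_dual_pow (k := k) x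
  set P := minpoly k x
  set n := P.natDegree
  have h1 : ∑ i ∈ Finset.range (n + 1), P.coeff i • ((g ^ i - g ^ n) ⊗ₜ[k] (x ^ i)) = 0 := by
    have e1 := aeval_algHom_apply κ x P
    rw [minpoly.aeval, map_zero, hκ, aeval_eq_sum_range] at e1
    have e2 : (g ^ n) ⊗ₜ[k] aeval x P = 0 := by rw [minpoly.aeval, TensorProduct.tmul_zero]
    rw [aeval_eq_sum_range, TensorProduct.tmul_sum] at e2
    simp only [Algebra.TensorProduct.tmul_pow, TensorProduct.tmul_smul] at e1 e2
    simp only [TensorProduct.sub_tmul, smul_sub, Finset.sum_sub_distrib]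
    rw [e1, e2, sub_zero]
  have hcoef : ∀ i ∈ Finset.range (n + 1), P.coeff i • g ^ i = P.coeff i • g ^ n := by
    intro i hi
    rw [Finset.mem_range] at hi
    rcases Nat.lt_or_ge i n with hlt | hge
    · have h2 := congrArg (fun z => TensorProduct.rid k A (LinearMap.lTensor A (φ i) z)) h1
      simp only [map_sum, map_zero, map_smul, LinearMap.lTensor_tmul, TensorProduct.rid_tmul] at h2
      rw [Finset.sum_eq_single i] at h2
      · rw [hφ i i hlt hlt, if_pos rfl, one_smul, smul_sub, sub_eq_zero] at h2
        exact h2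
      · intro m hm hne
        rw [Finset.mem_range] at hm
        rcases Nat.lt_or_ge m n with hlt' | hge'
        · rw [hφ i m hlt hlt', if_neg hne.symm, zero_smul, smul_zero]
        · rw [show m = n by omega, sub_self, smul_zero, smul_zero]
      · intro hni
        exact absurd (Finset.mem_range.2 (by omega)) hni
    · rw [show i = n by omega]
  rw [aeval_eq_sum_range, aeval_eq_sum_range, Finset.mul_sum]
  refine Finset.sum_congr rfl fun i hi => ?_
  rw [mul_pow, ← smul_mul_assoc, hcoef i hi, smul_mul_assoc, mul_smul_comm]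

end Groth.Agent.UnipSplit
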