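import Groth.Agent.UnipSplitLib.Lift
import Groth.Agent.UnipSplitLib.Relation

/-!
Crossed homomorphisms extending additive characters of the kernel.
-/

set_option autoImplicit false

noncomputable section

universe u

open TensorProduct WithConv

namespace Groth.Agent.UnipSplit

attribute [local instance] HopfFF.pointsGroup

variable {k : Type u} [Field k] {A : Type u} [CommRing A] [HopfAlgebra k A]
  {U : Type u} [CommRing U] [HopfAlgebra k U] {B : Type u} [CommRing B] [HopfAlgebra k B]
  {q : A →ₐc[k] U} {ψ : B →ₐc[k] A}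

theorem mul_spec {T : Type u} [CommRing T] [Algebra k T] (e e' : A →ₐ[k] T) :
    (toConv e * toConv e' : WithConv (A →ₐ[k] T)) =
      toConv ((Algebra.TensorProduct.productMap e e').comp (Bialgebra.comulAlgHom k A)) := by
  refine WithConv.ext (AlgHom.ext fun a => ?_)
  show (toConv e * toConv e') a = Algebra.TensorProduct.productMap e e' (CoalgebraStruct.comul (R := k) a)
  rw [AlgHom.convMul_apply]
  rfl

theorem apply_translate {x : U} {a : A} (ha : lam q a = x ⊗ₜ[k] (1 : A) + (1 : U) ⊗ₜ[k] a)
    {T : Type u} [CommRing T] [Algebra k T] (f : U →ₐ[k] T) (e : A →ₐ[k] T) :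
    (pull q f * toConv e).ofConv a = f x + e a := by
  rw [lam_spec, ofConv_toConv, AlgHom.comp_apply, ha, map_add]
  simp

theorem Ext.lam_comp (h : Ext q ψ) (b : B) : lam q (ψ b) = (1 : U) ⊗ₜ[k] ψ b := by
  have e1 := AlgHom.convMul_comp_bialgHom_distrib
    (pull q (Algebra.TensorProduct.includeLeft : U →ₐ[k] U ⊗[k] A))
    (toConv (Algebra.TensorProduct.includeRight : A →ₐ[k] U ⊗[k] A)) ψ
  rw [h.pull_comp, toConv_ofConv, one_mul] at e1
  exact AlgHom.congr_fun e1 b

theorem mul_assoc' {G : Type*} [Group G] (a b c : G) : a * (b * c) = a * b * a⁻¹ * (a * c) := by group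

/-- The normalised crossed homomorphism. -/
theorem Ext.exists_crossed [IsAlgClosed k] (h : Ext q ψ) {l : A →ₗ[k] k} (hl1 : l 1 = 1)
    (hl : ∀ b, ComodLib.slice l (CoalgebraStruct.comul (R := k) (ψ b)) = l (ψ b) • (1 : A))
    {κ : U →ₐ[k] A ⊗[k] U} (hκ : κ.comp (q : A →ₐ[k] U) = Ad q) {x : U}
    (hx : CoalgebraStruct.comul (R := k) x = x ⊗ₜ[k] (1 : U) + (1 : U) ⊗ₜ[k] x)
    {g₀ : B} (hg₀ : IsGroupLikeElem k g₀) (hgx : κ x = ψ g₀ ⊗ₜ[k] x) :
    ∃ a : A, lam q a = x ⊗ₜ[k] (1 : A) + (1 : U) ⊗ₜ[k] a ∧
      CoalgebraStruct.comul (R := k) a = a ⊗ₜ[k] (1 : A) + ψ g₀ ⊗ₜ[k] a ∧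
      Polynomial.aeval (-a) (minpoly k x) = 0 := by
  obtain ⟨a, ha⟩ := h.exists_lift_primitive hx
  set g := ψ g₀ with hg_def
  have hΔg : CoalgebraStruct.comul (R := k) g = g ⊗ₜ[k] g := by
    rw [hg_def, ← CoalgHomClass.map_comp_comul_apply ψ, hg₀.comul_eq_tmul_self, TensorProduct.map_tmul]
    rfl
  have hlamg : lam q g = (1 : U) ⊗ₜ[k] g := h.lam_comp g₀
  let D := CoalgebraStruct.comul (R := k) a - a ⊗ₜ[k] (1 : A) - g ⊗ₜ[k] a
  -- invariance in the first variable
  have hD1 : LinearMap.rTensor A (lam q).toLinearMap D = (TensorProduct.assoc k U A A).symm ((1 : U) ⊗ₜ[k] D) := by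
    apply (TensorProduct.assoc k U A A).injective
    rw [LinearEquiv.apply_symm_apply]
    let f : U →ₐ[k] U ⊗[k] (A ⊗[k] A) := Algebra.TensorProduct.includeLeft
    let i : A ⊗[k] A →ₐ[k] U ⊗[k] (A ⊗[k] A) := Algebra.TensorProduct.includeRight
    let e1 : A →ₐ[k] U ⊗[k] (A ⊗[k] A) := i.comp Algebra.TensorProduct.includeLeft
    let e2 : A →ₐ[k] U ⊗[k] (A ⊗[k] A) := i.comp Algebra.TensorProduct.includeRight
    let e' := (Algebra.TensorProduct.productMap f e1).comp (lam q)
    let e12 := (Algebra.TensorProduct.productMap e1 e2).comp (Bialgebra.comulAlgHom k A)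
    have h1 : (toConv e' * toConv e2).ofConv a = (pull q f * toConv e12).ofConv a := by
      rw [show toConv e' = pull q f * toConv e1 from (lam_spec q f e1).symm,
        show toConv e12 = toConv e1 * toConv e2 from (mul_spec e1 e2).symm]
      exact congrArg (fun F : WithConv (A →ₐ[k] U ⊗[k] (A ⊗[k] A)) => F.ofConv a)
        (mul_assoc (pull q f) (toConv e1) (toConv e2))
    rw [apply_translate ha, mul_spec, ofConv_toConv, AlgHom.comp_apply, AlgHom.comp_apply] at h1
    have k1 : ∀ z : A ⊗[k] A, Algebra.TensorProduct.productMap e' e2 z =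
        TensorProduct.assoc k U A A (LinearMap.rTensor A (lam q).toLinearMap z) := fun z => by
      induction z using TensorProduct.induction_on with
      | zero => simp
      | add a b ha hb => simp only [map_add, ha, hb]
      | tmul p r =>
        rw [Algebra.TensorProduct.productMap_apply_tmul, AlgHom.comp_apply, LinearMap.rTensor_tmul,
          AlgHom.toLinearMap_apply]
        generalize lam q p = w
        induction w using TensorProduct.induction_on with
        | zero => simp
        | add a b ha hb => simp only [map_add, add_mul, TensorProduct.add_tmul, ha, hb]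
        | tmul a b => simp [f, e1, e2, i]
    have k2 : ∀ z : A ⊗[k] A, Algebra.TensorProduct.productMap e1 e2 z = (1 : U) ⊗ₜ[k] z := fun z => by
      induction z using TensorProduct.induction_on with
      | zero => simp
      | add a b ha hb => simp only [map_add, TensorProduct.tmul_add, ha, hb]
      | tmul p r => simp [e1, e2, i]
    rw [Bialgebra.comulAlgHom_apply, k1, k2] at h1
    simp only [D, map_sub, LinearMap.rTensor_tmul, AlgHom.toLinearMap_apply, ha, hlamg, TensorProduct.add_tmul,
      map_add, TensorProduct.assoc_tmul, h1, TensorProduct.tmul_sub]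
    simp [f, Algebra.TensorProduct.one_def]
  -- invariance in the second variable
  have hD2 : LinearMap.lTensor A (lam q).toLinearMap D = LinearMap.lTensor A (TensorProduct.mk k U A 1) D := by
    let i : U ⊗[k] A →ₐ[k] A ⊗[k] (U ⊗[k] A) := Algebra.TensorProduct.includeRight
    let e1 : A →ₐ[k] A ⊗[k] (U ⊗[k] A) := Algebra.TensorProduct.includeLeft
    let f : U →ₐ[k] A ⊗[k] (U ⊗[k] A) := i.comp Algebra.TensorProduct.includeLeft
    let e2 : A →ₐ[k] A ⊗[k] (U ⊗[k] A) := i.comp Algebra.TensorProduct.includeRight
    let e' := (Algebra.TensorProduct.productMap f e2).comp (lam q)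
    let e12 := (Algebra.TensorProduct.productMap e1 e2).comp (Bialgebra.comulAlgHom k A)
    have h1 : (toConv e1 * toConv e').ofConv a =
        (pull q ((Algebra.TensorProduct.productMap e1 f).comp κ) * toConv e12).ofConv a := by
      rw [show toConv e' = pull q f * toConv e2 from (lam_spec q f e2).symm,
        show toConv e12 = toConv e1 * toConv e2 from (mul_spec e1 e2).symm, ← conj_spec hκ]
      exact congrArg (fun F : WithConv (A →ₐ[k] A ⊗[k] (U ⊗[k] A)) => F.ofConv a)
        (mul_assoc' (toConv e1) (pull q f) (toConv e2))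
    rw [apply_translate ha, mul_spec, ofConv_toConv, AlgHom.comp_apply, AlgHom.comp_apply, AlgHom.comp_apply, hgx] at h1
    have k1 : ∀ z : A ⊗[k] A, Algebra.TensorProduct.productMap e1 e' z =
        LinearMap.lTensor A (lam q).toLinearMap z := fun z => by
      induction z using TensorProduct.induction_on with
      | zero => simp
      | add a b ha hb => simp only [map_add, ha, hb]
      | tmul p r =>
        rw [Algebra.TensorProduct.productMap_apply_tmul, AlgHom.comp_apply, LinearMap.lTensor_tmul,
          AlgHom.toLinearMap_apply]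
        generalize lam q r = w
        induction w using TensorProduct.induction_on with
        | zero => simp
        | add a b ha hb => simp only [map_add, mul_add, TensorProduct.tmul_add, ha, hb]
        | tmul a b => simp [f, e1, e2, i]
    have k2 : ∀ z : A ⊗[k] A, Algebra.TensorProduct.productMap e1 e2 z =
        LinearMap.lTensor A (TensorProduct.mk k U A 1) z := fun z => by
      induction z using TensorProduct.induction_on with
      | zero => simp
      | add a b ha hb => simp only [map_add, ha, hb]
      | tmul p r => simp [e1, e2, i]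
    rw [Bialgebra.comulAlgHom_apply, k1, k2] at h1
    simp only [D, map_sub, LinearMap.lTensor_tmul, AlgHom.toLinearMap_apply, ha, map_one, h1,
      TensorProduct.mk_apply, TensorProduct.tmul_add]
    simp [f, e1, i, Algebra.TensorProduct.one_def]
    abel
  let W := LinearMap.range (ψ : B →ₐ[k] A).toLinearMap
  have hW2 := h.mem_range_lTensor_of_invariant hD2
  have hW1 := h.mem_range_rTensor_of_invariant hD1
  let b := ComodLib.slice l D
  obtain ⟨b₀, hb₀⟩ : b ∈ W := ComodLib.slice_mem_of_mem_range W l hW1
  -- the cocycle identity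
  have hcoc : TensorProduct.assoc k A A A (LinearMap.rTensor A (CoalgebraStruct.comul (R := k)) D) +
      TensorProduct.assoc k A A A (D ⊗ₜ[k] (1 : A)) =
      g ⊗ₜ[k] D + LinearMap.lTensor A (CoalgebraStruct.comul (R := k)) D := by
    simp only [D, map_sub, LinearMap.rTensor_tmul, LinearMap.lTensor_tmul, hΔg, Bialgebra.comul_one,
      Algebra.TensorProduct.one_def, TensorProduct.sub_tmul, TensorProduct.tmul_sub, TensorProduct.assoc_tmul]
    rw [show TensorProduct.assoc k A A A (LinearMap.rTensor A (CoalgebraStruct.comul (R := k))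
      (CoalgebraStruct.comul (R := k) a)) = LinearMap.lTensor A (CoalgebraStruct.comul (R := k))
      (CoalgebraStruct.comul (R := k) a) from Coalgebra.coassoc_apply a]
    abel
  have hb : CoalgebraStruct.comul (R := k) b + D = g ⊗ₜ[k] b + b ⊗ₜ[k] (1 : A) := by
    have e := congrArg (LinearMap.lTensor A (ComodLib.slice l)) hcoc
    rw [map_add, map_add, LinearMap.lTensor_tmul] at e
    have t1 : ∀ z : A ⊗[k] A, LinearMap.lTensor A (ComodLib.slice l) (TensorProduct.assoc k A A A
        (LinearMap.rTensor A (CoalgebraStruct.comul (R := k)) z)) =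
        CoalgebraStruct.comul (R := k) (ComodLib.slice l z) := fun z => by
      induction z using TensorProduct.induction_on with
      | zero => simp
      | add a b ha hb => simp only [map_add, ha, hb]
      | tmul p r =>
        rw [LinearMap.rTensor_tmul, ComodLib.slice_tmul, map_smul]
        generalize CoalgebraStruct.comul (R := k) p = w
        induction w using TensorProduct.induction_on with
        | zero => simp
        | add a b ha hb => simp only [map_add, TensorProduct.add_tmul, smul_add, ha, hb]
        | tmul a b => simp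
    have t2 : ∀ z : A ⊗[k] A, LinearMap.lTensor A (ComodLib.slice l) (TensorProduct.assoc k A A A (z ⊗ₜ[k] (1 : A))) =
        z := fun z => by
      induction z using TensorProduct.induction_on with
      | zero => simp
      | add a b ha hb => simp only [map_add, TensorProduct.add_tmul, ha, hb]
      | tmul p r => simp [hl1]
    have t3 : LinearMap.lTensor A (ComodLib.slice l) (LinearMap.lTensor A (CoalgebraStruct.comul (R := k)) D) =
        b ⊗ₜ[k] (1 : A) := by
      obtain ⟨w, hw⟩ := hW2
      show _ = ComodLib.slice l D ⊗ₜ[k] (1 : A)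
      rw [← hw]
      clear hw
      induction w using TensorProduct.induction_on with
      | zero => simp
      | add a b ha hb => simp only [map_add, TensorProduct.add_tmul, ha, hb]
      | tmul p r =>
        obtain ⟨_, c, rfl⟩ := r
        simp [hl, TensorProduct.smul_tmul']
    rw [t1, t2, t3] at e
    exact e
  let a₁ := a + b
  have hlamb : lam q b = (1 : U) ⊗ₜ[k] b := by rw [← hb₀]; exact h.lam_comp b₀
  have ha₁ : lam q a₁ = x ⊗ₜ[k] (1 : A) + (1 : U) ⊗ₜ[k] a₁ := by
    rw [map_add, ha, hlamb, TensorProduct.tmul_add]; abel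
  have hΔa₁ : CoalgebraStruct.comul (R := k) a₁ = a₁ ⊗ₜ[k] (1 : A) + g ⊗ₜ[k] a₁ := by
    have e1 : CoalgebraStruct.comul (R := k) a = D + a ⊗ₜ[k] (1 : A) + g ⊗ₜ[k] a := by simp only [D]; abel
    rw [map_add, e1, eq_sub_of_add_eq hb, TensorProduct.add_tmul, TensorProduct.tmul_add]; abel
  clear_value a₁
  -- normalisation by the relation
  set P := minpoly k x with hP
  set G := g ^ P.natDegree with hG
  have hε := counit_of_primitive hx
  have hadd : ∀ {T : Type u} [CommRing T] [Algebra k T] (c d : T),
      Polynomial.aeval (c + d) P = Polynomial.aeval c P + Polynomial.aeval d P := fun c d => aeval_add hx hε c d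
  have hzero : ∀ {T : Type u} [CommRing T] [Algebra k T], Polynomial.aeval (0 : T) P = 0 := fun {T} _ _ => by
    have := hadd (0 : T) 0
    rw [add_zero] at this
    simpa using this
  have hw : ∀ v : A, Polynomial.aeval (g * v) P = G * Polynomial.aeval v P := fun v => aeval_mul_of_weight g κ hgx v
  let y := Polynomial.aeval a₁ P
  have hΔy : CoalgebraStruct.comul (R := k) y = y ⊗ₜ[k] (1 : A) + G ⊗ₜ[k] y := by
    show Bialgebra.comulAlgHom k A (Polynomial.aeval a₁ P) = _
    rw [← Polynomial.aeval_algHom_apply, Bialgebra.comulAlgHom_apply, hΔa₁, hadd]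
    congr 1
    · exact Polynomial.aeval_algHom_apply (Algebra.TensorProduct.includeLeft : A →ₐ[k] A ⊗[k] A) a₁ P
    · have e := aeval_mul_of_weight (g ⊗ₜ[k] (1 : A))
        ((Algebra.TensorProduct.map (Algebra.TensorProduct.includeLeft : A →ₐ[k] A ⊗[k] A) (AlgHom.id k U)).comp κ)
        (by rw [AlgHom.comp_apply, hgx]; rfl) ((1 : A) ⊗ₜ[k] a₁)
      rw [Algebra.TensorProduct.tmul_mul_tmul, mul_one, one_mul] at e
      rw [e, show Polynomial.aeval ((1 : A) ⊗ₜ[k] a₁) P = (1 : A) ⊗ₜ[k] y from
        Polynomial.aeval_algHom_apply (Algebra.TensorProduct.includeRight : A →ₐ[k] A ⊗[k] A) a₁ P,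
        Algebra.TensorProduct.tmul_pow, one_pow, Algebra.TensorProduct.tmul_mul_tmul, mul_one, one_mul]
  have hlamy : lam q y = (1 : U) ⊗ₜ[k] y := by
    show lam q (Polynomial.aeval a₁ P) = _
    rw [← Polynomial.aeval_algHom_apply, ha₁, hadd,
      show Polynomial.aeval (x ⊗ₜ[k] (1 : A)) P = Polynomial.aeval x P ⊗ₜ[k] (1 : A) from
        Polynomial.aeval_algHom_apply (Algebra.TensorProduct.includeLeft : U →ₐ[k] U ⊗[k] A) x P,
      show Polynomial.aeval ((1 : U) ⊗ₜ[k] a₁) P = (1 : U) ⊗ₜ[k] y from
        Polynomial.aeval_algHom_apply (Algebra.TensorProduct.includeRight : A →ₐ[k] U ⊗[k] A) a₁ P,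
      hP, minpoly.aeval, TensorProduct.zero_tmul, zero_add]
  obtain ⟨c, hc⟩ := h.mem_range_of_invariant hlamy
  have hy : y = l y • ((1 : A) - G) := by
    have e := congrArg (ComodLib.slice l) hΔy
    rw [map_add, ComodLib.slice_tmul, ComodLib.slice_tmul, hl1, one_smul, ← hc, hl, hc] at e
    rw [smul_sub, e]
    abel
  obtain ⟨s, hs⟩ : ∃ s : k, Polynomial.aeval s P = l y := by
    rcases eq_or_ne P.natDegree 0 with h0 | h0
    · have hP0 : P = 0 := by
        by_contra hne
        have hint : IsIntegral k x := by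
          by_contra hni
          exact hne (minpoly.eq_zero hni)
        haveI : Nontrivial U := (Bialgebra.counitAlgHom k U).toRingHom.domain_nontrivial
        exact (minpoly.natDegree_pos hint).ne' h0
      refine ⟨0, ?_⟩
      have hy0 : y = 0 := by show Polynomial.aeval a₁ P = 0; rw [hP0, map_zero]
      rw [hy0, map_zero, hzero]
    · have hd : (P - Polynomial.C (l y)).degree ≠ 0 := by
        intro hdeg
        apply h0
        have := Polynomial.natDegree_eq_of_degree_eq_some hdeg
        rwa [Polynomial.natDegree_sub_C] at this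
      obtain ⟨s, hs⟩ := IsAlgClosed.exists_root _ hd
      exact ⟨s, by simpa [Polynomial.IsRoot, sub_eq_zero] using hs⟩
  let σ : A := algebraMap k A s
  refine ⟨a₁ - σ + g * σ, ?_, ?_, ?_⟩
  · have hσ : lam q σ = (1 : U) ⊗ₜ[k] σ := by
      show lam q (algebraMap k A s) = _
      rw [AlgHom.commutes, Algebra.TensorProduct.algebraMap_apply, Algebra.algebraMap_eq_smul_one,
        TensorProduct.smul_tmul]
      simp [σ, Algebra.algebraMap_eq_smul_one]
    rw [map_add, map_sub, map_mul, ha₁, hlamg, hσ, Algebra.TensorProduct.tmul_mul_tmul, one_mul,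
      TensorProduct.tmul_add, TensorProduct.tmul_sub]
    abel
  · have hσ : σ = s • (1 : A) := Algebra.algebraMap_eq_smul_one s
    rw [map_add, map_sub, Bialgebra.comul_mul, hΔa₁, hΔg, hσ, LinearMap.map_smul, Bialgebra.comul_one,
      Algebra.TensorProduct.one_def]
    simp only [mul_smul_comm, mul_one, Algebra.TensorProduct.tmul_mul_tmul, TensorProduct.add_tmul,
      TensorProduct.sub_tmul, TensorProduct.tmul_add, TensorProduct.tmul_sub, TensorProduct.smul_tmul',
      TensorProduct.tmul_smul, LinearMap.map_smul]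
    abel
  · have hneg : ∀ v : A, Polynomial.aeval (-v) P = -Polynomial.aeval v P := fun v => by
      rw [eq_neg_iff_add_eq_zero, ← hadd, neg_add_cancel, hzero]
    have hσ : Polynomial.aeval σ P = algebraMap k A (l y) := by
      show Polynomial.aeval (algebraMap k A s) P = _
      rw [Polynomial.aeval_algebraMap_apply, hs]
    rw [hneg, hadd, sub_eq_add_neg, hadd, hneg, hw, hσ, neg_eq_zero]
    show y + -_ + _ = 0
    generalize l y = t at hy ⊢
    rw [hy, Algebra.smul_def]
    ring

end Groth.Agent.UnipSplit
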