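import Groth.Agent.UnipSplitLib.Crossed
import Groth.Agent.HopfFFLib.SubHopf
import Mathlib.RingTheory.HopfAlgebra.Quotient

/-!
The kernel of a crossed homomorphism still surjects onto the quotient group.
-/

set_option autoImplicit false

noncomputable section

universe u

open TensorProduct WithConv

namespace Groth.Agent.UnipSplit

variable {k : Type u} [Field k] {A : Type u} [CommRing A] [HopfAlgebra k A]
  {U : Type u} [CommRing U] [HopfAlgebra k U] {B : Type u} [CommRing B] [HopfAlgebra k B]
  {q : A →ₐc[k] U} {ψ : B →ₐc[k] A}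

theorem isHopfIdeal_span_crossed {a g : A} (hg : IsGroupLikeElem k g)
    (ha : CoalgebraStruct.comul (R := k) a = a ⊗ₜ[k] (1 : A) + g ⊗ₜ[k] a) :
    (Ideal.span {a}).IsHopfIdeal k := by
  have hε : CoalgebraStruct.counit (R := k) a = 0 := by
    have h := congrArg (CoalgebraStruct.counit (R := k) ∘ TensorProduct.lid k A) (Coalgebra.rTensor_counit_comul (R := k) a)
    rw [ha] at h
    simpa [show CoalgebraStruct.counit (R := k) g = 1 from hg.counit_eq_one] using h
  have hS : HopfAlgebraStruct.antipode (R := k) a = -(HopfAlgebraStruct.antipode (R := k) g * a) := by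
    have h := HopfAlgebra.mul_antipode_rTensor_comul_apply (R := k) a
    rw [ha, hε, map_zero] at h
    simp only [map_add, LinearMap.rTensor_tmul, LinearMap.mul'_apply, mul_one] at h
    exact eq_neg_of_add_eq_zero_left h
  haveI : ((Ideal.span {a}).restrictScalars k).IsCoideal := by
    refine ⟨fun y hy => ?_, fun y hy => ?_⟩
    · obtain ⟨c, rfl⟩ := Ideal.mem_span_singleton'.1 hy
      rw [Bialgebra.counit_mul, hε, mul_zero]
    · obtain ⟨c, rfl⟩ := Ideal.mem_span_singleton'.1 hy
      rw [Bialgebra.comul_mul, ha]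
      generalize CoalgebraStruct.comul (R := k) c = z
      have h0 : ∀ r : A, ((Ideal.span {a}).restrictScalars k).mkQ (r * a) = 0 := fun r =>
        (Submodule.Quotient.mk_eq_zero _).2 (Ideal.mul_mem_left _ r (Ideal.subset_span rfl))
      induction z using TensorProduct.induction_on with
      | zero => simp
      | add p q hp hq => simp only [add_mul, map_add, hp, hq, add_zero]
      | tmul p q =>
        rw [mul_add, Algebra.TensorProduct.tmul_mul_tmul, Algebra.TensorProduct.tmul_mul_tmul, map_add,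
          TensorProduct.map_tmul, TensorProduct.map_tmul, h0, h0, TensorProduct.zero_tmul, TensorProduct.tmul_zero,
          add_zero]
  refine ⟨fun y hy => ?_⟩
  obtain ⟨c, rfl⟩ := Ideal.mem_span_singleton'.1 hy
  show HopfAlgebraStruct.antipode (R := k) (c * a) ∈ _
  rw [show HopfAlgebraStruct.antipode (R := k) (c * a) = HopfAlgebra.antipodeAlgHom k A (c * a) from rfl, map_mul,
    show HopfAlgebra.antipodeAlgHom k A a = -(HopfAlgebraStruct.antipode (R := k) g * a) from hS, mul_neg, ← mul_assoc]
  exact neg_mem (Ideal.mul_mem_left _ _ (Ideal.subset_span rfl))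

theorem Ext.eq_zero_of_mem_span (h : Ext q ψ) {x : U}
    (hx : CoalgebraStruct.comul (R := k) x = x ⊗ₜ[k] (1 : U) + (1 : U) ⊗ₜ[k] x)
    {a : A} (ha : lam q a = x ⊗ₜ[k] (1 : A) + (1 : U) ⊗ₜ[k] a)
    (hP : Polynomial.aeval (-a) (minpoly k x) = 0) {b : B} (hb : ψ b ∈ Ideal.span {a}) : b = 0 := by
  obtain ⟨d, hd⟩ := Ideal.mem_span_singleton'.1 hb
  let R := (Polynomial.aeval (R := k) x).range
  let π : Polynomial k →ₐ[k] R := (Polynomial.aeval (R := k) x).rangeRestrict
  have hπ : Function.Surjective π := AlgHom.rangeRestrict_surjective _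
  have hker : ∀ Q, π Q = 0 → Polynomial.aeval (-a) Q = 0 := fun Q hQ => by
    obtain ⟨Q', rfl⟩ := minpoly.dvd k x (show Polynomial.aeval x Q = 0 from congrArg Subtype.val hQ)
    rw [map_mul, hP, zero_mul]
  let φ : R →ₐ[k] A := AlgHom.liftOfSurjective π hπ (Polynomial.aeval (-a)) hker
  have hφ : φ ⟨x, ⟨Polynomial.X, Polynomial.aeval_X x⟩⟩ = -a := by
    have h1 := AlgHom.congr_fun (AlgHom.liftOfSurjective_comp π hπ (Polynomial.aeval (-a)) hker) Polynomial.X
    rw [Polynomial.aeval_X] at h1
    have h2 : π Polynomial.X = ⟨x, ⟨Polynomial.X, Polynomial.aeval_X x⟩⟩ := Subtype.ext (Polynomial.aeval_X x)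
    rw [AlgHom.comp_apply, h2] at h1
    exact h1
  have hS : HopfFF.IsSubHopf k U R := by
    have hx' : ∀ y ∈ R, ∃ Q, Polynomial.aeval x Q = y := fun y hy => hy
    have hε := counit_of_primitive hx
    refine ⟨fun y hy => ?_, fun y hy => ?_⟩
    · obtain ⟨Q, rfl⟩ := hx' y hy
      have e : (TensorProduct.map R.val.toLinearMap R.val.toLinearMap) =
          (Algebra.TensorProduct.map R.val R.val).toLinearMap := TensorProduct.ext' fun p r => by simp
      rw [e]
      refine ⟨Polynomial.aeval ((⟨x, ⟨Polynomial.X, Polynomial.aeval_X x⟩⟩ : R) ⊗ₜ[k] (1 : R) +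
        (1 : R) ⊗ₜ[k] (⟨x, ⟨Polynomial.X, Polynomial.aeval_X x⟩⟩ : R)) Q, ?_⟩
      rw [AlgHom.toLinearMap_apply, ← Polynomial.aeval_algHom_apply, map_add, Algebra.TensorProduct.map_tmul,
        Algebra.TensorProduct.map_tmul, map_one]
      show Polynomial.aeval (x ⊗ₜ[k] (1 : U) + (1 : U) ⊗ₜ[k] x) Q = _
      rw [← hx]
      exact Polynomial.aeval_algHom_apply (Bialgebra.comulAlgHom k U) x Q
    · obtain ⟨Q, rfl⟩ := hx' y hy
      have hSx : HopfAlgebraStruct.antipode (R := k) x = -x := by
        have h := HopfAlgebra.mul_antipode_rTensor_comul_apply (R := k) x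
        rw [hx, hε, map_zero] at h
        simp only [map_add, LinearMap.rTensor_tmul, LinearMap.mul'_apply, mul_one, HopfAlgebra.antipode_one, one_mul] at h
        exact eq_neg_of_add_eq_zero_left h
      refine ⟨Q.comp (-Polynomial.X), ?_⟩
      show Polynomial.aeval x (Q.comp (-Polynomial.X)) = HopfAlgebra.antipodeAlgHom k U (Polynomial.aeval x Q)
      rw [Polynomial.aeval_comp, map_neg, Polynomial.aeval_X, ← Polynomial.aeval_algHom_apply,
        show HopfAlgebra.antipodeAlgHom k U x = -x from hSx]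
  haveI : Module.FaithfullyFlat R U := HopfFF.faithfullyFlat hS
  letI : Algebra R A := φ.toRingHom.toAlgebra
  haveI : IsScalarTower k R A := IsScalarTower.of_algebraMap_eq fun c => (φ.commutes c).symm
  let inU : U →ₐ[k] U ⊗[R] A := Algebra.TensorProduct.includeLeft
  let inA : A →ₐ[k] U ⊗[R] A := (Algebra.TensorProduct.includeRight : A →ₐ[R] U ⊗[R] A).restrictScalars k
  have hxa : inU x = inA (-a) := by
    rw [← hφ]
    exact ((Algebra.TensorProduct.includeLeft : U →ₐ[R] U ⊗[R] A).commutes ⟨x, ⟨Polynomial.X, Polynomial.aeval_X x⟩⟩).trans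
      ((Algebra.TensorProduct.includeRight : A →ₐ[R] U ⊗[R] A).commutes ⟨x, ⟨Polynomial.X, Polynomial.aeval_X x⟩⟩).symm
  have h0 : inA (ψ b) = 0 := by
    have e := congrArg (Algebra.TensorProduct.productMap inU inA) (h.lam_comp b)
    rw [Algebra.TensorProduct.productMap_apply_tmul, map_one, one_mul] at e
    rw [← e, ← hd, map_mul, ha, map_mul, map_add, Algebra.TensorProduct.productMap_apply_tmul,
      Algebra.TensorProduct.productMap_apply_tmul, map_one, map_one, mul_one, one_mul, hxa, map_neg, neg_add_cancel,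
      mul_zero]
  apply h.inj
  rw [map_zero]
  apply Module.FaithfullyFlat.tensorProduct_mk_injective (A := R) (B := U) A
  rw [map_zero]
  exact h0

end Groth.Agent.UnipSplit
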