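import Groth.Agent.UnipSplitLib.Weight

/-!
Additive characters of the kernel extend to functions of the group.
-/

set_option autoImplicit false

noncomputable section

universe u

open TensorProduct WithConv

namespace Groth.Agent.UnipSplit

attribute [local instance] HopfFF.pointsGroup

variable {k : Type u} [Field k] {A : Type u} [CommRing A] [HopfAlgebra k A]
  {U : Type u} [CommRing U] [HopfAlgebra k U] {B : Type u} [CommRing B] [HopfAlgebra k B]
  {q : A →ₐc[k] U} {ψ : B →ₐc[k] A}

theorem div_mul_div' {G : Type*} [Group G] (a b c : G) : a * b⁻¹ * (b * c⁻¹) = a * c⁻¹ := by group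

theorem mul_cancel' {G : Type*} [Group G] (a b : G) : a * b * b⁻¹ = a := by group

theorem Ext.exists_lift_primitive (h : Ext q ψ) {x : U}
    (hx : CoalgebraStruct.comul (R := k) x = x ⊗ₜ[k] (1 : U) + (1 : U) ⊗ₜ[k] x) :
    ∃ a : A, lam q a = x ⊗ₜ[k] (1 : A) + (1 : U) ⊗ₜ[k] a := by
  letI := (ψ : B →+* A).toAlgebra
  haveI : IsScalarTower k B A := IsScalarTower.of_algebraMap_eq fun c => (AlgHomClass.commutes ψ c).symm
  haveI : Module.FaithfullyFlat B A :=
    RingHom.faithfullyFlat_algebraMap_iff.1 (HopfFF.faithfullyFlat_of_injective ψ h.inj)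
  let L : A →ₐ[k] A ⊗[B] A := Algebra.TensorProduct.includeLeft
  let R : A →ₐ[k] A ⊗[B] A := (Algebra.TensorProduct.includeRight : A →ₐ[B] A ⊗[B] A).restrictScalars k
  have hLR : ∀ b : B, R (ψ b) = L (ψ b) := fun b =>
    ((Algebra.TensorProduct.includeRight : A →ₐ[B] A ⊗[B] A).commutes b).trans
      ((Algebra.TensorProduct.includeLeft : A →ₐ[B] A ⊗[B] A).commutes b).symm
  obtain ⟨θ, hθ⟩ := h.exists_lift (toConv L * (toConv R)⁻¹).ofConv fun b => by
    have e1 := AlgHom.convMul_comp_bialgHom_distrib (toConv L) (toConv R)⁻¹ ψ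
    have e2 : L.comp (ψ : B →ₐ[k] A) = R.comp (ψ : B →ₐ[k] A) := AlgHom.ext fun c => (hLR c).symm
    have e3 : (toConv R)⁻¹.ofConv.comp (ψ : B →ₐ[k] A) = (toConv (R.comp (ψ : B →ₐ[k] A)))⁻¹.ofConv :=
      AlgHom.ext fun c => congrArg R (HopfFF.map_antipode ψ c).symm
    rw [ofConv_toConv, e2, e3, toConv_ofConv, mul_inv_cancel] at e1
    exact AlgHom.congr_fun e1 b
  have hθ' : pull q θ = toConv L * (toConv R)⁻¹ := WithConv.ext hθ
  -- the cocycle identity
  let f12 : A ⊗[B] A →ₐ[k] A ⊗[B] (A ⊗[B] A) :=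
    (Algebra.TensorProduct.map (AlgHom.id B A) (Algebra.TensorProduct.includeLeft : A →ₐ[B] A ⊗[B] A)).restrictScalars k
  let f13 : A ⊗[B] A →ₐ[k] A ⊗[B] (A ⊗[B] A) :=
    (Algebra.TensorProduct.map (AlgHom.id B A) (Algebra.TensorProduct.includeRight : A →ₐ[B] A ⊗[B] A)).restrictScalars k
  let f23 : A ⊗[B] A →ₐ[k] A ⊗[B] (A ⊗[B] A) :=
    (Algebra.TensorProduct.includeRight : A ⊗[B] A →ₐ[B] A ⊗[B] (A ⊗[B] A)).restrictScalars k
  have hco : f12 (θ x) + f23 (θ x) = f13 (θ x) := by
    have hP : push f12 (pull q θ) * push f23 (pull q θ) = push f13 (pull q θ) := by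
      rw [hθ', push_mul, push_mul, push_mul, push_inv, push_inv, push_inv, push_toConv, push_toConv, push_toConv,
        push_toConv, push_toConv, push_toConv,
        show f23.comp L = f12.comp R from AlgHom.ext fun p => by simp [f12, f23, L, R],
        show f13.comp L = f12.comp L from AlgHom.ext fun p => by
          simp [f12, f13, L, Algebra.TensorProduct.one_def],
        show f13.comp R = f23.comp R from AlgHom.ext fun p => by simp [f23, f13, R]]
      exact div_mul_div' (toConv (f12.comp L)) (toConv (f12.comp R)) (toConv (f23.comp R))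
    rw [push_pull, push_pull, push_pull, pull_mul] at hP
    have := AlgHom.congr_fun (pull_injective h.surj hP) x
    rw [add_of_primitive hx] at this
    exact this
  let d : A →ₗ[B] A ⊗[B] A :=
    (Algebra.TensorProduct.includeRight : A →ₐ[B] A ⊗[B] A).toLinearMap -
      (Algebra.TensorProduct.includeLeft : A →ₐ[B] A ⊗[B] A).toLinearMap
  have hd : ∀ z, LinearMap.lTensor A d z = f13 z - f12 z := fun z => by
    induction z using TensorProduct.induction_on with
    | zero => simp
    | add a b ha hb => simp only [map_add, ha, hb]; abel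
    | tmul p r => simp [d, f12, f13, TensorProduct.tmul_sub]
  obtain ⟨a', ha'⟩ : θ x ∈ LinearMap.range d := by
    rw [← Submodule.Quotient.mk_eq_zero]
    apply Module.FaithfullyFlat.tensorProduct_mk_injective (A := B) (B := A) ((A ⊗[B] A) ⧸ LinearMap.range d)
    rw [map_zero]
    show (1 : A) ⊗ₜ[B] (LinearMap.range d).mkQ (θ x) = 0
    rw [← LinearMap.lTensor_tmul, show (1 : A) ⊗ₜ[B] θ x = f23 (θ x) from rfl,
      show f23 (θ x) = LinearMap.lTensor A d (θ x) by rw [hd, ← hco]; abel, ← LinearMap.lTensor_comp_apply,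
      LinearMap.range_mkQ_comp, LinearMap.lTensor_zero, LinearMap.zero_apply]
  -- back to the product
  let iA : A →ₐ[k] U ⊗[k] A := Algebra.TensorProduct.includeRight
  letI : Algebra B (U ⊗[k] A) := (iA.comp (ψ : B →ₐ[k] A)).toRingHom.toAlgebra
  let iA' : A →ₐ[B] U ⊗[k] A := { iA with commutes' := fun _ => rfl }
  have hlam : ∀ b, lam q (ψ b) = iA (ψ b) := by
    intro b
    have e1 := AlgHom.convMul_comp_bialgHom_distrib
      (pull q (Algebra.TensorProduct.includeLeft : U →ₐ[k] U ⊗[k] A)) (toConv iA) ψ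
    rw [h.pull_comp, toConv_ofConv, one_mul] at e1
    exact AlgHom.congr_fun e1 b
  let lam' : A →ₐ[B] U ⊗[k] A := { lam q with commutes' := hlam }
  let α' : A ⊗[B] A →ₐ[B] U ⊗[k] A := Algebra.TensorProduct.lift lam' iA' fun _ _ => Commute.all _ _
  let α : A ⊗[B] A →ₐ[k] U ⊗[k] A :=
    { α' with
      commutes' := fun c => by
        show α' (algebraMap k (A ⊗[B] A) c) = _
        rw [Algebra.TensorProduct.algebraMap_apply, Algebra.TensorProduct.lift_tmul, map_one, mul_one]
        show lam q (algebraMap k A c) = _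
        exact AlgHom.commutes _ c }
  have hαL : α.comp L = lam q := AlgHom.ext fun p => by
    show α' (p ⊗ₜ[B] 1) = _
    rw [Algebra.TensorProduct.lift_tmul, map_one, mul_one]
    rfl
  have hαR : α.comp R = iA := AlgHom.ext fun p => by
    show α' (1 ⊗ₜ[B] p) = _
    rw [Algebra.TensorProduct.lift_tmul, map_one, one_mul]
    rfl
  have hP : push α (pull q θ) = pull q (Algebra.TensorProduct.includeLeft : U →ₐ[k] U ⊗[k] A) := by
    rw [hθ', push_mul, push_inv, push_toConv, push_toConv, hαL, hαR,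
      show toConv (lam q) = pull q (Algebra.TensorProduct.includeLeft : U →ₐ[k] U ⊗[k] A) * toConv iA from
        toConv_ofConv _]
    exact mul_cancel' (pull q (Algebra.TensorProduct.includeLeft : U →ₐ[k] U ⊗[k] A)) (toConv iA)
  rw [push_pull] at hP
  have h3 := AlgHom.congr_fun (pull_injective h.surj hP) x
  rw [AlgHom.comp_apply, ← ha'] at h3
  have h4 : α (R a') - α (L a') = x ⊗ₜ[k] (1 : A) := by
    rw [← map_sub]
    exact h3
  rw [← AlgHom.comp_apply, ← AlgHom.comp_apply, hαL, hαR] at h4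
  refine ⟨-a', ?_⟩
  rw [map_neg, TensorProduct.tmul_neg, ← h4]
  show -lam q a' = (1 : U) ⊗ₜ[k] a' - lam q a' + -((1 : U) ⊗ₜ[k] a')
  abel

end Groth.Agent.UnipSplit
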